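import Cfsg.Agent.H58.Mod.F24MD

set_option autoImplicit false
set_option Elab.async false
set_option maxRecDepth 100000

namespace Cfsg.Agent.H58.F24M

open Cfsg.Agent.H58

theorem ne0 : netErr 306936 (getNet nets 0) = 0 := by decide +kernel
theorem ne1 : netErr 306936 (getNet nets 1) = 0 := by decide +kernel
theorem ne2 : netErr 306936 (getNet nets 2) = 0 := by decide +kernel
theorem ne3 : netErr 306936 (getNet nets 3) = 0 := by decide +kernel
theorem ne4 : netErr 306936 (getNet nets 4) = 0 := by decide +kernel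
theorem ne5 : netErr 306936 (getNet nets 5) = 0 := by decide +kernel
theorem ne6 : netErr 306936 (getNet nets 6) = 0 := by decide +kernel
theorem ne7 : netErr 306936 (getNet nets 7) = 0 := by decide +kernel
theorem ne8 : netErr 306936 (getNet nets 8) = 0 := by decide +kernel
theorem ne9 : netErr 306936 (getNet nets 9) = 0 := by decide +kernel
theorem ne10 : netErr 306936 (getNet nets 10) = 0 := by decide +kernel
theorem ne11 : netErr 306936 (getNet nets 11) = 0 := by decide +kernel
theorem ne12 : netErr 306936 (getNet nets 12) = 0 := by decide +kernel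
theorem e0_0 : eqsAt nets 306936 19 pairs0 0 = 0 := by decide +kernel
theorem e0_1 : eqsAt nets 306936 19 pairs0 1 = 0 := by decide +kernel
theorem e0_2 : eqsAt nets 306936 19 pairs0 2 = 0 := by decide +kernel
theorem e0_3 : eqsAt nets 306936 19 pairs0 3 = 0 := by decide +kernel
theorem e0_4 : eqsAt nets 306936 19 pairs0 4 = 0 := by decide +kernel
theorem e0_5 : eqsAt nets 306936 19 pairs0 5 = 0 := by decide +kernel
theorem e0_6 : eqsAt nets 306936 19 pairs0 6 = 0 := by decide +kernel
theorem e0_7 : eqsAt nets 306936 19 pairs0 7 = 0 := by decide +kernel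
theorem e0_8 : eqsAt nets 306936 19 pairs0 8 = 0 := by decide +kernel
theorem e0_9 : eqsAt nets 306936 19 pairs0 9 = 0 := by decide +kernel
theorem e0_10 : eqsAt nets 306936 19 pairs0 10 = 0 := by decide +kernel
theorem e0_11 : eqsAt nets 306936 19 pairs0 11 = 0 := by decide +kernel
theorem e0_12 : eqsAt nets 306936 19 pairs0 12 = 0 := by decide +kernel
theorem e0_13 : eqsAt nets 306936 19 pairs0 13 = 0 := by decide +kernel
theorem e0_14 : eqsAt nets 306936 19 pairs0 14 = 0 := by decide +kernel
theorem e0_15 : eqsAt nets 306936 19 pairs0 15 = 0 := by decide +kernel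
theorem e0_16 : eqsAt nets 306936 19 pairs0 16 = 0 := by decide +kernel
theorem e0_17 : eqsAt nets 306936 19 pairs0 17 = 0 := by decide +kernel
theorem e0_18 : eqsAt nets 306936 19 pairs0 18 = 0 := by decide +kernel
theorem e1_0 : eqsAt nets 306936 19 pairs1 0 = 0 := by decide +kernel
theorem e1_1 : eqsAt nets 306936 19 pairs1 1 = 0 := by decide +kernel
theorem e1_2 : eqsAt nets 306936 19 pairs1 2 = 0 := by decide +kernel
theorem e1_3 : eqsAt nets 306936 19 pairs1 3 = 0 := by decide +kernel
theorem e1_4 : eqsAt nets 306936 19 pairs1 4 = 0 := by decide +kernel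
theorem e1_5 : eqsAt nets 306936 19 pairs1 5 = 0 := by decide +kernel
theorem e1_6 : eqsAt nets 306936 19 pairs1 6 = 0 := by decide +kernel
theorem e1_7 : eqsAt nets 306936 19 pairs1 7 = 0 := by decide +kernel
theorem e1_8 : eqsAt nets 306936 19 pairs1 8 = 0 := by decide +kernel
theorem e1_9 : eqsAt nets 306936 19 pairs1 9 = 0 := by decide +kernel
theorem e1_10 : eqsAt nets 306936 19 pairs1 10 = 0 := by decide +kernel
theorem e1_11 : eqsAt nets 306936 19 pairs1 11 = 0 := by decide +kernel
theorem e1_12 : eqsAt nets 306936 19 pairs1 12 = 0 := by decide +kernel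
theorem e1_13 : eqsAt nets 306936 19 pairs1 13 = 0 := by decide +kernel
theorem e1_14 : eqsAt nets 306936 19 pairs1 14 = 0 := by decide +kernel
theorem e1_15 : eqsAt nets 306936 19 pairs1 15 = 0 := by decide +kernel
theorem e1_16 : eqsAt nets 306936 19 pairs1 16 = 0 := by decide +kernel
theorem e1_17 : eqsAt nets 306936 19 pairs1 17 = 0 := by decide +kernel
theorem e1_18 : eqsAt nets 306936 19 pairs1 18 = 0 := by decide +kernel
theorem e2_0 : eqsAt nets 306936 19 pairs2 0 = 0 := by decide +kernel
theorem e2_1 : eqsAt nets 306936 19 pairs2 1 = 0 := by decide +kernel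
theorem e2_2 : eqsAt nets 306936 19 pairs2 2 = 0 := by decide +kernel
theorem e2_3 : eqsAt nets 306936 19 pairs2 3 = 0 := by decide +kernel
theorem e2_4 : eqsAt nets 306936 19 pairs2 4 = 0 := by decide +kernel
theorem e2_5 : eqsAt nets 306936 19 pairs2 5 = 0 := by decide +kernel
theorem e2_6 : eqsAt nets 306936 19 pairs2 6 = 0 := by decide +kernel
theorem e2_7 : eqsAt nets 306936 19 pairs2 7 = 0 := by decide +kernel
theorem e2_8 : eqsAt nets 306936 19 pairs2 8 = 0 := by decide +kernel
theorem e2_9 : eqsAt nets 306936 19 pairs2 9 = 0 := by decide +kernel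
theorem e2_10 : eqsAt nets 306936 19 pairs2 10 = 0 := by decide +kernel
theorem e2_11 : eqsAt nets 306936 19 pairs2 11 = 0 := by decide +kernel
theorem e2_12 : eqsAt nets 306936 19 pairs2 12 = 0 := by decide +kernel
theorem e2_13 : eqsAt nets 306936 19 pairs2 13 = 0 := by decide +kernel
theorem e2_14 : eqsAt nets 306936 19 pairs2 14 = 0 := by decide +kernel
theorem e2_15 : eqsAt nets 306936 19 pairs2 15 = 0 := by decide +kernel
theorem e2_16 : eqsAt nets 306936 19 pairs2 16 = 0 := by decide +kernel
theorem e2_17 : eqsAt nets 306936 19 pairs2 17 = 0 := by decide +kernel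
theorem e2_18 : eqsAt nets 306936 19 pairs2 18 = 0 := by decide +kernel
theorem e3_0 : eqsAt nets 306936 19 pairs3 0 = 0 := by decide +kernel
theorem e3_1 : eqsAt nets 306936 19 pairs3 1 = 0 := by decide +kernel
theorem e3_2 : eqsAt nets 306936 19 pairs3 2 = 0 := by decide +kernel
theorem e3_3 : eqsAt nets 306936 19 pairs3 3 = 0 := by decide +kernel
theorem e3_4 : eqsAt nets 306936 19 pairs3 4 = 0 := by decide +kernel
theorem e3_5 : eqsAt nets 306936 19 pairs3 5 = 0 := by decide +kernel
theorem e3_6 : eqsAt nets 306936 19 pairs3 6 = 0 := by decide +kernel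
theorem e3_7 : eqsAt nets 306936 19 pairs3 7 = 0 := by decide +kernel
theorem e3_8 : eqsAt nets 306936 19 pairs3 8 = 0 := by decide +kernel
theorem e3_9 : eqsAt nets 306936 19 pairs3 9 = 0 := by decide +kernel
theorem e3_10 : eqsAt nets 306936 19 pairs3 10 = 0 := by decide +kernel
theorem e3_11 : eqsAt nets 306936 19 pairs3 11 = 0 := by decide +kernel
theorem e3_12 : eqsAt nets 306936 19 pairs3 12 = 0 := by decide +kernel
theorem e3_13 : eqsAt nets 306936 19 pairs3 13 = 0 := by decide +kernel
theorem e3_14 : eqsAt nets 306936 19 pairs3 14 = 0 := by decide +kernel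
theorem e3_15 : eqsAt nets 306936 19 pairs3 15 = 0 := by decide +kernel
theorem e3_16 : eqsAt nets 306936 19 pairs3 16 = 0 := by decide +kernel
theorem e3_17 : eqsAt nets 306936 19 pairs3 17 = 0 := by decide +kernel
theorem e3_18 : eqsAt nets 306936 19 pairs3 18 = 0 := by decide +kernel
theorem e4_0 : eqsAt nets 306936 19 pairs4 0 = 0 := by decide +kernel
theorem e4_1 : eqsAt nets 306936 19 pairs4 1 = 0 := by decide +kernel
theorem e4_2 : eqsAt nets 306936 19 pairs4 2 = 0 := by decide +kernel
theorem e4_3 : eqsAt nets 306936 19 pairs4 3 = 0 := by decide +kernel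
theorem e4_4 : eqsAt nets 306936 19 pairs4 4 = 0 := by decide +kernel
theorem e4_5 : eqsAt nets 306936 19 pairs4 5 = 0 := by decide +kernel
theorem e4_6 : eqsAt nets 306936 19 pairs4 6 = 0 := by decide +kernel
theorem e4_7 : eqsAt nets 306936 19 pairs4 7 = 0 := by decide +kernel
theorem e4_8 : eqsAt nets 306936 19 pairs4 8 = 0 := by decide +kernel
theorem e4_9 : eqsAt nets 306936 19 pairs4 9 = 0 := by decide +kernel
theorem e4_10 : eqsAt nets 306936 19 pairs4 10 = 0 := by decide +kernel
theorem e4_11 : eqsAt nets 306936 19 pairs4 11 = 0 := by decide +kernel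
theorem e4_12 : eqsAt nets 306936 19 pairs4 12 = 0 := by decide +kernel
theorem e4_13 : eqsAt nets 306936 19 pairs4 13 = 0 := by decide +kernel
theorem e4_14 : eqsAt nets 306936 19 pairs4 14 = 0 := by decide +kernel
theorem e4_15 : eqsAt nets 306936 19 pairs4 15 = 0 := by decide +kernel
theorem e4_16 : eqsAt nets 306936 19 pairs4 16 = 0 := by decide +kernel
theorem e4_17 : eqsAt nets 306936 19 pairs4 17 = 0 := by decide +kernel
theorem e4_18 : eqsAt nets 306936 19 pairs4 18 = 0 := by decide +kernel
theorem e5_0 : eqsAt nets 306936 19 pairs5 0 = 0 := by decide +kernel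

end Cfsg.Agent.H58.F24M
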