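import Cfsg.Agent.H58.Mod.F24MD

set_option autoImplicit false
set_option Elab.async false
set_option maxRecDepth 100000

namespace Cfsg.Agent.H58.F24M

open Cfsg.Agent.H58

theorem e5_1 : eqsAt nets 306936 19 pairs5 1 = 0 := by decide +kernel
theorem e5_2 : eqsAt nets 306936 19 pairs5 2 = 0 := by decide +kernel
theorem e5_3 : eqsAt nets 306936 19 pairs5 3 = 0 := by decide +kernel
theorem e5_4 : eqsAt nets 306936 19 pairs5 4 = 0 := by decide +kernel
theorem e5_5 : eqsAt nets 306936 19 pairs5 5 = 0 := by decide +kernel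
theorem e5_6 : eqsAt nets 306936 19 pairs5 6 = 0 := by decide +kernel
theorem e5_7 : eqsAt nets 306936 19 pairs5 7 = 0 := by decide +kernel
theorem e5_8 : eqsAt nets 306936 19 pairs5 8 = 0 := by decide +kernel
theorem e5_9 : eqsAt nets 306936 19 pairs5 9 = 0 := by decide +kernel
theorem e5_10 : eqsAt nets 306936 19 pairs5 10 = 0 := by decide +kernel
theorem e5_11 : eqsAt nets 306936 19 pairs5 11 = 0 := by decide +kernel
theorem e5_12 : eqsAt nets 306936 19 pairs5 12 = 0 := by decide +kernel
theorem e5_13 : eqsAt nets 306936 19 pairs5 13 = 0 := by decide +kernel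
theorem e5_14 : eqsAt nets 306936 19 pairs5 14 = 0 := by decide +kernel
theorem e5_15 : eqsAt nets 306936 19 pairs5 15 = 0 := by decide +kernel
theorem e5_16 : eqsAt nets 306936 19 pairs5 16 = 0 := by decide +kernel
theorem e5_17 : eqsAt nets 306936 19 pairs5 17 = 0 := by decide +kernel
theorem e5_18 : eqsAt nets 306936 19 pairs5 18 = 0 := by decide +kernel
theorem e6_0 : eqsAt nets 306936 19 pairs6 0 = 0 := by decide +kernel
theorem e6_1 : eqsAt nets 306936 19 pairs6 1 = 0 := by decide +kernel
theorem e6_2 : eqsAt nets 306936 19 pairs6 2 = 0 := by decide +kernel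
theorem e6_3 : eqsAt nets 306936 19 pairs6 3 = 0 := by decide +kernel
theorem e6_4 : eqsAt nets 306936 19 pairs6 4 = 0 := by decide +kernel
theorem e6_5 : eqsAt nets 306936 19 pairs6 5 = 0 := by decide +kernel
theorem e6_6 : eqsAt nets 306936 19 pairs6 6 = 0 := by decide +kernel
theorem e6_7 : eqsAt nets 306936 19 pairs6 7 = 0 := by decide +kernel
theorem e6_8 : eqsAt nets 306936 19 pairs6 8 = 0 := by decide +kernel
theorem e6_9 : eqsAt nets 306936 19 pairs6 9 = 0 := by decide +kernel
theorem e6_10 : eqsAt nets 306936 19 pairs6 10 = 0 := by decide +kernel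
theorem e6_11 : eqsAt nets 306936 19 pairs6 11 = 0 := by decide +kernel
theorem e6_12 : eqsAt nets 306936 19 pairs6 12 = 0 := by decide +kernel
theorem e6_13 : eqsAt nets 306936 19 pairs6 13 = 0 := by decide +kernel
theorem e6_14 : eqsAt nets 306936 19 pairs6 14 = 0 := by decide +kernel
theorem e6_15 : eqsAt nets 306936 19 pairs6 15 = 0 := by decide +kernel
theorem e6_16 : eqsAt nets 306936 19 pairs6 16 = 0 := by decide +kernel
theorem e6_17 : eqsAt nets 306936 19 pairs6 17 = 0 := by decide +kernel
theorem e6_18 : eqsAt nets 306936 19 pairs6 18 = 0 := by decide +kernel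
theorem nz0 : netErr 306936 (getNet netsZ 0) = 0 := by decide +kernel
theorem nz1 : netErr 306936 (getNet netsZ 1) = 0 := by decide +kernel
theorem nz2 : netErr 306936 (getNet netsZ 2) = 0 := by decide +kernel
theorem nz3 : netErr 306936 (getNet netsZ 3) = 0 := by decide +kernel
theorem nz4 : netErr 306936 (getNet netsZ 4) = 0 := by decide +kernel
theorem nz5 : netErr 306936 (getNet netsZ 5) = 0 := by decide +kernel
theorem nz6 : netErr 306936 (getNet netsZ 6) = 0 := by decide +kernel
theorem nz7 : netErr 306936 (getNet netsZ 7) = 0 := by decide +kernel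
theorem nz8 : netErr 306936 (getNet netsZ 8) = 0 := by decide +kernel
theorem nz9 : netErr 306936 (getNet netsZ 9) = 0 := by decide +kernel
theorem nz10 : netErr 306936 (getNet netsZ 10) = 0 := by decide +kernel
theorem nz11 : netErr 306936 (getNet netsZ 11) = 0 := by decide +kernel
theorem nz12 : netErr 306936 (getNet netsZ 12) = 0 := by decide +kernel
theorem nz13 : netErr 306936 (getNet netsZ 13) = 0 := by decide +kernel
theorem ez0 : eqsAt netsZ 306936 19 pairsZ 0 = 0 := by decide +kernel
theorem ez1 : eqsAt netsZ 306936 19 pairsZ 1 = 0 := by decide +kernel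
theorem ez2 : eqsAt netsZ 306936 19 pairsZ 2 = 0 := by decide +kernel
theorem ez3 : eqsAt netsZ 306936 19 pairsZ 3 = 0 := by decide +kernel
theorem ez4 : eqsAt netsZ 306936 19 pairsZ 4 = 0 := by decide +kernel
theorem ez5 : eqsAt netsZ 306936 19 pairsZ 5 = 0 := by decide +kernel
theorem ez6 : eqsAt netsZ 306936 19 pairsZ 6 = 0 := by decide +kernel
theorem ez7 : eqsAt netsZ 306936 19 pairsZ 7 = 0 := by decide +kernel
theorem ez8 : eqsAt netsZ 306936 19 pairsZ 8 = 0 := by decide +kernel
theorem ez9 : eqsAt netsZ 306936 19 pairsZ 9 = 0 := by decide +kernel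
theorem ez10 : eqsAt netsZ 306936 19 pairsZ 10 = 0 := by decide +kernel
theorem ez11 : eqsAt netsZ 306936 19 pairsZ 11 = 0 := by decide +kernel
theorem ez12 : eqsAt netsZ 306936 19 pairsZ 12 = 0 := by decide +kernel
theorem ez13 : eqsAt netsZ 306936 19 pairsZ 13 = 0 := by decide +kernel
theorem ez14 : eqsAt netsZ 306936 19 pairsZ 14 = 0 := by decide +kernel
theorem ez15 : eqsAt netsZ 306936 19 pairsZ 15 = 0 := by decide +kernel
theorem ez16 : eqsAt netsZ 306936 19 pairsZ 16 = 0 := by decide +kernel
theorem ez17 : eqsAt netsZ 306936 19 pairsZ 17 = 0 := by decide +kernel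
theorem ez18 : eqsAt netsZ 306936 19 pairsZ 18 = 0 := by decide +kernel

end Cfsg.Agent.H58.F24M
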