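import Cfsg.Agent.H58.Util5
import Cfsg.Agent.H58.Mod.F24ME0
import Cfsg.Agent.H58.Mod.F24ME1

set_option autoImplicit false
set_option maxRecDepth 100000

namespace Cfsg.Agent.H58.F24M

open Cfsg.Agent.H58

theorem netsOK : NetsOK nets 306936 := netsOK_of (show ∀ x < 13, _ from (blocks_cons (blocks_cons (blocks_cons (blocks_cons (blocks_cons (blocks_cons (blocks_cons (blocks_cons (blocks_cons (blocks_cons (blocks_cons (blocks_cons (blocks_cons (blocks_nil _) ne0) ne1) ne2) ne3) ne4) ne5) ne6) ne7) ne8) ne9) ne10) ne11) ne12))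

theorem netsZOK : NetsOK netsZ 306936 := netsOK_of (show ∀ x < 14, _ from (blocks_cons (blocks_cons (blocks_cons (blocks_cons (blocks_cons (blocks_cons (blocks_cons (blocks_cons (blocks_cons (blocks_cons (blocks_cons (blocks_cons (blocks_cons (blocks_cons (blocks_nil _) nz0) nz1) nz2) nz3) nz4) nz5) nz6) nz7) nz8) nz9) nz10) nz11) nz12) nz13))

def pairsP : List (List Nat × List Nat) := [([4, 3, 2, 1, 11, 12, 4, 5, 6, 7, 10, 4, 8, 9, 4, 3, 2, 1, 11, 12, 4, 5, 6, 7, 10, 4, 8, 9, 4, 3, 2, 1, 11, 12, 4, 5, 6, 7, 10, 4, 8, 9, 4, 3, 2, 1, 11, 12, 4, 5, 6, 7, 10, 4, 8, 9, 4, 3, 2, 1, 11, 12, 4, 5, 6, 7, 10, 4, 8, 9, 4, 3, 2, 1, 11, 12, 4, 5, 6, 7, 10, 4, 8, 9, 4, 3, 2, 1, 11, 12, 4, 5, 6, 7, 10, 4, 8, 9, 4, 3, 2, 1, 11, 12, 4, 5, 6, 7, 10, 4, 8, 9, 4, 3, 2, 1, 11, 12, 4, 5, 6, 7, 10, 4, 8, 9, 4, 3, 2, 1, 11, 12, 4, 5, 6, 7, 10, 4, 8, 9, 4, 3, 2, 1, 11, 12, 4, 5, 6, 7, 10, 4, 8, 9, 4, 3, 2, 1, 11, 12, 4, 5, 6, 7, 10,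 4, 8, 9, 4, 3, 2, 1, 11, 12, 4, 5, 6, 7, 10, 4, 8, 9, 4, 3, 2, 1, 11, 12, 4, 5, 6, 7, 10, 4, 8, 9, 4, 3, 2, 1, 11, 12, 4, 5, 6, 7, 10, 4, 8, 9, 4, 3, 2, 1, 11, 12, 4, 5, 6, 7, 10, 4, 8, 9, 4, 3, 2, 1, 11, 12, 4, 5, 6, 7, 10, 4, 8, 9], [])]

theorem ruleN : RuleOK (elN nets) rels iv :=
  ruleOK_of_eqs (pairs := (pairsP ++ (pairs0 ++ (pairs1 ++ (pairs2 ++ (pairs3 ++ (pairs4 ++ (pairs5 ++ pairs6)))))))) rfl (forall_mem_append_of (pow_pair (more := [n13]) (by decide +kernel) (eqs_sound netsZOK (by decide) (blocks_cons (blocks_cons (blocks_cons (blocks_cons (blocks_cons (blocks_cons (blocks_cons (blocks_cons (blocks_cons (blocks_cons (blocks_cons (blocks_cons (blocks_cons (blocks_cons (blocks_cons (blocks_cons (blocks_cons (blocks_cons (blocks_cons (blocks_nil _) ez0) ez1) ez2) ez3) ez4) ez5) ez6) ez7) ez8) ez9) ez10) ez11) ez12) ez13) ez14) ez15) ez16) ez17) ez18))) (forall_mem_append_of (eqs_sound netsOK (by decide)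 (blocks_cons (blocks_cons (blocks_cons (blocks_cons (blocks_cons (blocks_cons (blocks_cons (blocks_cons (blocks_cons (blocks_cons (blocks_cons (blocks_cons (blocks_cons (blocks_cons (blocks_cons (blocks_cons (blocks_cons (blocks_cons (blocks_cons (blocks_nil _) e0_0) e0_1) e0_2) e0_3) e0_4) e0_5) e0_6) e0_7) e0_8) e0_9) e0_10) e0_11) e0_12) e0_13) e0_14) e0_15) e0_16) e0_17) e0_18)) (forall_mem_append_of (eqs_sound netsOK (by decide) (blocks_cons (blocks_cons (blocks_cons (blocks_cons (blocks_cons (blocks_cons (blocks_cons (blocks_cons (blocks_cons (blocks_cons (blocks_cons (blocks_cons (blocks_cons (blocks_cons (blocks_cons (blocks_cons (blocks_cons (blocks_cons (blocks_cons (blocks_nil _) e1_0) e1_1) e1_2) e1_3) e1_4) e1_5) e1_6) e1_7) e1_8) e1_9) e1_10) e1_11) e1_12) e1_13) e1_14) e1_15) e1_16) e1_17) e1_18)) (forall_mem_append_of (eqs_sound netsOK (by decide) (blocks_cons (blocks_cons (blocks_cons (blocks_cons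 (blocks_cons (blocks_cons (blocks_cons (blocks_cons (blocks_cons (blocks_cons (blocks_cons (blocks_cons (blocks_cons (blocks_cons (blocks_cons (blocks_cons (blocks_cons (blocks_cons (blocks_cons (blocks_nil _) e2_0) e2_1) e2_2) e2_3) e2_4) e2_5) e2_6) e2_7) e2_8) e2_9) e2_10) e2_11) e2_12) e2_13) e2_14) e2_15) e2_16) e2_17) e2_18)) (forall_mem_append_of (eqs_sound netsOK (by decide) (blocks_cons (blocks_cons (blocks_cons (blocks_cons (blocks_cons (blocks_cons (blocks_cons (blocks_cons (blocks_cons (blocks_cons (blocks_cons (blocks_cons (blocks_cons (blocks_cons (blocks_cons (blocks_cons (blocks_cons (blocks_cons (blocks_cons (blocks_nil _) e3_0) e3_1) e3_2) e3_3) e3_4) e3_5) e3_6) e3_7) e3_8) e3_9) e3_10) e3_11) e3_12) e3_13) e3_14) e3_15) e3_16) e3_17) e3_18)) (forall_mem_append_of (eqs_sound netsOK (by decide) (blocks_cons (blocks_cons (blocks_cons (blocks_cons (blocks_cons (blocks_cons (blocks_cons (blocks_cons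 (blocks_cons (blocks_cons (blocks_cons (blocks_cons (blocks_cons (blocks_cons (blocks_cons (blocks_cons (blocks_cons (blocks_cons (blocks_cons (blocks_nil _) e4_0) e4_1) e4_2) e4_3) e4_4) e4_5) e4_6) e4_7) e4_8) e4_9) e4_10) e4_11) e4_12) e4_13) e4_14) e4_15) e4_16) e4_17) e4_18)) (forall_mem_append_of (eqs_sound netsOK (by decide) (blocks_cons (blocks_cons (blocks_cons (blocks_cons (blocks_cons (blocks_cons (blocks_cons (blocks_cons (blocks_cons (blocks_cons (blocks_cons (blocks_cons (blocks_cons (blocks_cons (blocks_cons (blocks_cons (blocks_cons (blocks_cons (blocks_cons (blocks_nil _) e5_0) e5_1) e5_2) e5_3) e5_4) e5_5) e5_6) e5_7) e5_8) e5_9) e5_10) e5_11) e5_12) e5_13) e5_14) e5_15) e5_16) e5_17) e5_18)) (eqs_sound netsOK (by decide) (blocks_cons (blocks_cons (blocks_cons (blocks_cons (blocks_cons (blocks_cons (blocks_cons (blocks_cons (blocks_cons (blocks_cons (blocks_cons (blocks_cons (blocks_cons (blocks_cons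 (blocks_cons (blocks_cons (blocks_cons (blocks_cons (blocks_cons (blocks_nil _) e6_0) e6_1) e6_2) e6_3) e6_4) e6_5) e6_6) e6_7) e6_8) e6_9) e6_10) e6_11) e6_12) e6_13) e6_14) e6_15) e6_16) e6_17) e6_18))))))))) (by decide +kernel)

def wit : List (Nat × Nat) := [(0, 12), (131, 1), (21, 1), (41, 1), (59, 1), (75, 1), (89, 1), (119, 1), (101, 1), (111, 1), (129, 1), (125, 1), (131, 0), (0, 11), (19, 1), (39, 1), (57, 1), (73, 1), (87, 1), (117, 1), (99, 1), (109, 1), (127, 1), (123, 1), (21, 0), (19, 0), (0, 1), (1, 0), (3, 0), (5, 0), (7, 0), (13, 0), (9, 0), (11, 0), (17, 0), (15, 0), (41, 0), (39, 0), (1, 1), (0, 2), (23, 0), (25, 0), (27, 0), (33, 0), (29, 0), (31, 0), (37, 0), (35, 0), (59, 0), (57, 0), (3, 1), (23, 1), (0, 3), (43, 0), (45, 0), (51, 0), (47, 0), (49, 0), (55, 0), (53, 0), (75, 0), (73, 0), (5, 1), (25, 1), (43, 1), (0, 4), (61, 0), (67, 0), (63, 0), (65, 0), (71, 0), (69, 0), (89, 0), (87,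 0), (7, 1), (27, 1), (45, 1), (61, 1), (0, 5), (81, 0), (77, 0), (79, 0), (85, 0), (83, 0), (119, 0), (117, 0), (13, 1), (33, 1), (51, 1), (67, 1), (81, 1), (0, 8), (93, 1), (103, 1), (115, 0), (113, 0), (101, 0), (99, 0), (9, 1), (29, 1), (47, 1), (63, 1), (77, 1), (93, 0), (0, 6), (91, 0), (97, 0), (95, 0), (111, 0), (109, 0), (11, 1), (31, 1), (49, 1), (65, 1), (79, 1), (103, 0), (91, 1), (0, 7), (107, 0), (105, 0), (129, 0), (127, 0), (17, 1), (37, 1), (55, 1), (71, 1), (85, 1), (115, 1), (97, 1), (107, 1), (0, 10), (121, 1), (125, 0), (123, 0), (15, 1), (35, 1), (53, 1), (69, 1), (83, 1), (113, 1), (95, 1), (105, 1), (121, 0), (0, 9), (133, 0), (135, 0)]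

end Cfsg.Agent.H58.F24M
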